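import Mathlib.AlgebraicGeometry.Morphisms.Flat
import Mathlib.RingTheory.Flat.Basic
import Mathlib.RingTheory.Flat.TorsionFree

/-!
# Functions on the union of two basic opens cut out by a regular sequence
-/

set_option autoImplicit false
set_option backward.isDefEq.respectTransparency false
universe u

open CategoryTheory AlgebraicGeometry TopologicalSpace Opposite
open scoped nonZeroDivisors

namespace Groth.Agent.ThetaAff

lemma pow_dvd_of_dvd_mul {A : Type u} [CommRing A] {u v : A} (hu : u ∈ A⁰) (huv : ∀ x, u ∣ v * x → u ∣ x)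
    (m : ℕ) : ∀ (n : ℕ) (b : A), u ^ n ∣ b * v ^ m → u ^ n ∣ b := by
  have h1 : ∀ (m : ℕ) (b : A), u ∣ b * v ^ m → u ∣ b := by
    intro m
    induction m with
    | zero => intro b h; simpa using h
    | succ m ih => intro b h; exact ih b (huv _ (by rwa [pow_succ, ← mul_assoc, mul_comm] at h))
  intro n
  induction n with
  | zero => intro b _; simp
  | succ n ih =>
    intro b h
    obtain ⟨b', rfl⟩ := ih b (dvd_trans ⟨u, pow_succ u n⟩ h)
    obtain ⟨c, hc⟩ := h
    rw [pow_succ]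
    refine mul_dvd_mul_left _ (h1 m b' ⟨c, ?_⟩)
    rw [← mul_cancel_left_mem_nonZeroDivisors (pow_mem hu n), ← mul_assoc, hc, pow_succ, mul_assoc]

variable {Y : Scheme.{u}}

lemma injective_ι_appTop_of_res {U : Y.Opens}
    (h : Function.Injective (Y.presheaf.map (homOfLE (le_top : U ≤ ⊤)).op).hom) :
    Function.Injective U.ι.appTop.hom := by
  intro a b hab
  apply h
  have e : ∀ x, (Y.presheaf.map (homOfLE (le_top : U ≤ ⊤)).op).hom x = U.topIso.hom.hom (U.ι.appTop.hom x) := by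
    intro x
    show _ = (U.ι.appTop ≫ U.topIso.hom).hom x
    simp [Scheme.Opens.topIso, Scheme.Opens.ι_appTop, ← Functor.map_comp]
  rw [e, e, hab]

lemma bijective_ι_appTop_of_res {U : Y.Opens}
    (h : Function.Bijective (Y.presheaf.map (homOfLE (le_top : U ≤ ⊤)).op).hom) :
    Function.Bijective U.ι.appTop.hom := by
  refine ⟨injective_ι_appTop_of_res h.1, fun z => ?_⟩
  obtain ⟨x, hx⟩ := h.2 (U.topIso.hom.hom z)
  refine ⟨x, ?_⟩
  have : Function.Injective U.topIso.hom.hom := (ConcreteCategory.bijective_of_isIso U.topIso.hom).1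
  apply this
  rw [← hx]
  show (U.ι.appTop ≫ U.topIso.hom).hom x = _
  simp [Scheme.Opens.topIso, Scheme.Opens.ι_appTop, ← Functor.map_comp]

variable [IsAffine Y]

lemma injective_res_of_mem_nonZeroDivisors {v : Γ(Y, ⊤)} (hv : v ∈ Γ(Y, ⊤)⁰) {U : Y.Opens}
    (hU : Y.basicOpen v ≤ U) :
    Function.Injective (Y.presheaf.map (homOfLE (le_top : U ≤ ⊤)).op).hom := by
  intro a b h
  apply IsLocalization.injective Γ(Y, Y.basicOpen v) (M := Submonoid.powers v)
    (by rintro _ ⟨n, rfl⟩; exact pow_mem hv n)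
  have := congrArg (Y.presheaf.map (homOfLE hU).op).hom h
  rw [← CommRingCat.comp_apply, ← CommRingCat.comp_apply, ← Functor.map_comp] at this
  exact this

theorem bijective_res_sup {u v : Γ(Y, ⊤)} (hu : u ∈ Γ(Y, ⊤)⁰) (hv : v ∈ Γ(Y, ⊤)⁰)
    (huv : ∀ x, u ∣ v * x → u ∣ x) :
    Function.Bijective
      (Y.presheaf.map (homOfLE (le_top : Y.basicOpen u ⊔ Y.basicOpen v ≤ ⊤)).op).hom := by
  refine ⟨injective_res_of_mem_nonZeroDivisors hv le_sup_right, fun s => ?_⟩
  set su := (Y.presheaf.map (homOfLE (le_sup_left : Y.basicOpen u ≤ _ ⊔ Y.basicOpen v)).op).hom s with hsu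
  set sv := (Y.presheaf.map (homOfLE (le_sup_right : Y.basicOpen v ≤ Y.basicOpen u ⊔ _)).op).hom s with hsv
  obtain ⟨⟨b, ⟨_, n, rfl⟩⟩, hb⟩ := IsLocalization.surj (Submonoid.powers u) su
  obtain ⟨⟨c, ⟨_, m, rfl⟩⟩, hc⟩ := IsLocalization.surj (Submonoid.powers v) sv
  simp only at hb hc
  have key : b * v ^ m = c * u ^ n := by
    apply IsLocalization.injective Γ(Y, Y.basicOpen (u * v)) (M := Submonoid.powers (u * v))
      (by rintro _ ⟨k, rfl⟩; exact pow_mem (mul_mem hu hv) k)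
    have hle₁ : Y.basicOpen (u * v) ≤ Y.basicOpen u := by rw [Scheme.basicOpen_mul]; exact inf_le_left
    have hle₂ : Y.basicOpen (u * v) ≤ Y.basicOpen v := by rw [Scheme.basicOpen_mul]; exact inf_le_right
    let r₁ := (Y.presheaf.map (homOfLE hle₁).op).hom
    let r₂ := (Y.presheaf.map (homOfLE hle₂).op).hom
    have e₁ : ∀ x, r₁ (algebraMap Γ(Y, ⊤) Γ(Y, Y.basicOpen u) x) =
        algebraMap Γ(Y, ⊤) Γ(Y, Y.basicOpen (u * v)) x := fun x => by
      show (Y.presheaf.map _ ≫ Y.presheaf.map _).hom x = _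
      rw [← Functor.map_comp]
      rfl
    have e₂ : ∀ x, r₂ (algebraMap Γ(Y, ⊤) Γ(Y, Y.basicOpen v) x) =
        algebraMap Γ(Y, ⊤) Γ(Y, Y.basicOpen (u * v)) x := fun x => by
      show (Y.presheaf.map _ ≫ Y.presheaf.map _).hom x = _
      rw [← Functor.map_comp]
      rfl
    have es : r₁ su = r₂ sv := by
      show (Y.presheaf.map _ ≫ Y.presheaf.map _).hom s = (Y.presheaf.map _ ≫ Y.presheaf.map _).hom s
      rw [← Functor.map_comp, ← Functor.map_comp]
      rfl
    have hb' := congrArg r₁ hb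
    have hc' := congrArg r₂ hc
    simp only [map_mul, e₁, e₂] at hb' hc'
    rw [es] at hb'
    rw [map_mul, map_mul]
    linear_combination -(algebraMap _ Γ(Y, Y.basicOpen (u * v)) (v ^ m)) * hb' +
      (algebraMap _ Γ(Y, Y.basicOpen (u * v)) (u ^ n)) * hc'
  obtain ⟨a, rfl⟩ := pow_dvd_of_dvd_mul hu huv m n b ⟨c, by rw [key, mul_comm]⟩
  have hc_eq : c = a * v ^ m := by
    rw [← mul_cancel_left_mem_nonZeroDivisors (pow_mem hu n), ← mul_assoc, key, mul_comm]
  refine ⟨a, Y.sheaf.eq_of_locally_eq₂ (homOfLE (le_sup_left : Y.basicOpen u ≤ _ ⊔ Y.basicOpen v))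
    (homOfLE le_sup_right) le_rfl _ _ ?_ ?_⟩
  · refine Eq.trans ?_ (show algebraMap Γ(Y, ⊤) Γ(Y, Y.basicOpen u) a = su from
      (IsLocalization.map_units _ (⟨u ^ n, n, rfl⟩ : Submonoid.powers u)).mul_left_injective
        (by dsimp only; rw [hb, ← map_mul, mul_comm]))
    show (Y.presheaf.map _ ≫ Y.presheaf.map _).hom a = _
    rw [← Functor.map_comp]
    rfl
  · refine Eq.trans ?_ (show algebraMap Γ(Y, ⊤) Γ(Y, Y.basicOpen v) a = sv from
      (IsLocalization.map_units _ (⟨v ^ m, m, rfl⟩ : Submonoid.powers v)).mul_left_injective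
        (by dsimp only; rw [hc, ← map_mul, hc_eq]))
    show (Y.presheaf.map _ ≫ Y.presheaf.map _).hom a = _
    rw [← Functor.map_comp]
    rfl

/-- Nonzerodivisors stay so under flat morphisms of affine schemes. -/
theorem mem_nonZeroDivisors_of_flat {X : Scheme.{u}} [IsAffine X] (f : Y ⟶ X) [Flat f] {v : Γ(X, ⊤)}
    (hv : v ∈ Γ(X, ⊤)⁰) : f.appTop.hom v ∈ Γ(Y, ⊤)⁰ := by
  have hf : f.appTop.hom.Flat := (HasRingHomProperty.iff_of_isAffine (P := @Flat)).1 inferInstance
  algebraize [f.appTop.hom]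
  have : IsSMulRegular Γ(Y, ⊤) (algebraMap Γ(X, ⊤) Γ(Y, ⊤) v) := by
    have h0 : IsSMulRegular Γ(Y, ⊤) v :=
      (Module.Flat.isSMulRegular_of_nonZeroDivisors hv)
    exact fun a b h => h0 (by simpa [Algebra.smul_def] using h)
  rw [mem_nonZeroDivisors_iff_right]
  intro x hx
  exact this (show _ • x = _ • (0 : Γ(Y, ⊤)) by
    rw [smul_zero, smul_eq_mul, mul_comm]; exact hx)

end Groth.Agent.ThetaAff
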