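import Groth.Prelude.Def_GmAct
import Mathlib

/-!
# Regular pairs in `R[x]` and `R[s,t]/(st - π)`
-/

set_option autoImplicit false
set_option backward.isDefEq.respectTransparency false
universe u

open scoped nonZeroDivisors Polynomial
open ThetaS (STRing sFn tFn)

noncomputable section

namespace Groth.Agent.ThetaAff

variable {R : Type u} [CommRing R] [IsDomain R] {π : R}

theorem line_regular (hπ : π ≠ 0) :
    (Polynomial.X : R[X]) ∈ R[X]⁰ ∧ Polynomial.C π ∈ R[X]⁰ ∧
      ∀ x, (Polynomial.X : R[X]) ∣ Polynomial.C π * x → Polynomial.X ∣ x := by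
  refine ⟨mem_nonZeroDivisors_of_ne_zero Polynomial.X_ne_zero,
    mem_nonZeroDivisors_of_ne_zero (by simpa using hπ), fun x hx => ?_⟩
  refine (Polynomial.prime_X.dvd_or_dvd hx).resolve_left fun h => hπ ?_
  simpa using Polynomial.X_dvd_iff.1 h

/-- The relation. -/
abbrev rel (π : R) : MvPolynomial (Fin 2) R := MvPolynomial.X 0 * MvPolynomial.X 1 - MvPolynomial.C π

theorem mk_nzd (hπ : π ≠ 0) (i : Fin 2) :
    (Ideal.Quotient.mk (Ideal.span {rel π}) (MvPolynomial.X i) : STRing R π) ∈ (STRing R π)⁰ := by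
  rw [mem_nonZeroDivisors_iff_right]
  intro x hx
  obtain ⟨g, rfl⟩ := Ideal.Quotient.mk_surjective x
  rw [← map_mul, Ideal.Quotient.eq_zero_iff_dvd] at hx
  obtain ⟨h, hh⟩ := hx
  have hi : ¬ MvPolynomial.X i ∣ rel π := by
    rintro ⟨c, hc⟩
    apply hπ
    have := congrArg MvPolynomial.constantCoeff hc
    simpa [rel] using this
  obtain ⟨h', rfl⟩ := ((MvPolynomial.X_prime (R := R) (i := i)).dvd_or_dvd ⟨g, by rw [← hh, mul_comm]⟩).resolve_left hi
  rw [Ideal.Quotient.eq_zero_iff_dvd]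
  refine ⟨h', mul_left_cancel₀ (MvPolynomial.X_ne_zero (R := R) i) ?_⟩
  linear_combination hh

theorem st_regular (hπ : Prime π) :
    sFn R π ∈ (STRing R π)⁰ ∧ tFn R π ∈ (STRing R π)⁰ ∧ ∀ x, sFn R π ∣ tFn R π * x → sFn R π ∣ x := by
  refine ⟨mk_nzd hπ.ne_zero 0, mk_nzd hπ.ne_zero 1, fun x hx => ?_⟩
  obtain ⟨g, rfl⟩ := Ideal.Quotient.mk_surjective x
  obtain ⟨y, hy⟩ := hx
  obtain ⟨a, rfl⟩ := Ideal.Quotient.mk_surjective y
  rw [← map_mul, ← map_mul, Ideal.Quotient.eq, Ideal.mem_span_singleton] at hy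
  obtain ⟨h, hh⟩ := hy
  let ψ : MvPolynomial (Fin 2) R →ₐ[R] R[X] := MvPolynomial.aeval ![0, Polynomial.X]
  let ι : R[X] →ₐ[R] MvPolynomial (Fin 2) R := Polynomial.aeval (MvPolynomial.X 1)
  have hker : ∀ p, MvPolynomial.X 0 ∣ p - ι (ψ p) := by
    intro p
    induction p using MvPolynomial.induction_on with
    | C r => simp [ψ, ι]
    | add p q hp hq => rw [map_add, map_add, add_sub_add_comm]; exact dvd_add hp hq
    | mul_X p i hp =>
      fin_cases i
      · simp [ψ, ι]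
      · have e : p * MvPolynomial.X 1 - ι (ψ (p * MvPolynomial.X 1)) =
            (p - ι (ψ p)) * MvPolynomial.X 1 := by simp [ψ, ι, sub_mul]
        exact e ▸ hp.mul_right _
  have h0 : Polynomial.X * ψ g = Polynomial.C π * -ψ h := by
    have := congrArg ψ hh
    simpa [ψ, rel] using this
  have hp : Prime (Polynomial.C π) := Polynomial.prime_C_iff.2 hπ
  obtain ⟨c, hc⟩ := (hp.dvd_or_dvd ⟨_, h0⟩).resolve_left fun hX => hπ.not_unit (by
    obtain ⟨q, hq⟩ := hX
    refine IsUnit.of_mul_eq_one (q.coeff 1) ?_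
    have := congrArg (fun p => Polynomial.coeff p 1) hq
    simpa using this.symm)
  obtain ⟨d, hd⟩ := hker g
  rw [hc] at hd
  refine ⟨Ideal.Quotient.mk _ d + tFn R π * Ideal.Quotient.mk _ (ι c), ?_⟩
  have e : g = MvPolynomial.X 0 * d + MvPolynomial.C π * ι c := by
    have hC : ι (Polynomial.C π) = MvPolynomial.C π := by simp [ι]
    rw [map_mul, hC] at hd
    linear_combination hd
  rw [e, map_add, map_mul, map_mul]
  have hst := ThetaS.sFn_mul_tFn R π
  have hC' : (Ideal.Quotient.mk _ (MvPolynomial.C π) : STRing R π) = algebraMap R (STRing R π) π := rfl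
  rw [hC', ← hst]
  ring

end Groth.Agent.ThetaAff

end
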