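import Groth.Agent.ThetaAff.Inst
import Groth.Agent.ThetaAff.Hartogs
import Groth.Agent.ThetaAff.Rings
import Groth.Agent.BGaNotS.Punc
import Groth.Prelude.Def_ThetaS

/-!
# The punctured test stacks
-/

set_option autoImplicit false
set_option backward.isDefEq.respectTransparency false
set_option backward.isDefEq.respectTransparency.types false
set_option synthInstance.maxHeartbeats 400000
set_option maxHeartbeats 1600000
universe u

noncomputable section

namespace Groth.Agent.ThetaAff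

open CategoryTheory CategoryTheory.Limits MonoidalCategory CartesianMonoidalCategory AlgebraicGeometry
open ThetaS (Gm Lau zPow)
open scoped nonZeroDivisors Polynomial

variable {S : Scheme.{u}} {R : Type u} [CommRing R]

instance isAffineHom_gm : IsAffineHom (Gm R).hom := by
  show IsAffineHom (Spec.map (CommRingCat.ofHom (algebraMap R (Lau R))))
  infer_instance

/-- An element as a global function. -/
abbrev gfn {B : Type u} [CommRing B] [Algebra R B] (b : B) : Γ((CoactBr.sp R B).left, ⊤) :=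
  (Scheme.ΓSpecIso (CommRingCat.of B)).inv b

lemma gfn_mem {B : Type u} [CommRing B] [Algebra R B] {b : B} (hb : b ∈ B⁰) :
    gfn (R := R) b ∈ Γ((CoactBr.sp R B).left, ⊤)⁰ := by
  rw [mem_nonZeroDivisors_iff_right] at hb ⊢
  intro x hx
  have hx' := congrArg (fun t => (Scheme.ΓSpecIso (CommRingCat.of B)).hom t) hx
  simp only [map_mul, map_zero, gfn] at hx'
  have e : (Scheme.ΓSpecIso (CommRingCat.of B)).hom ((Scheme.ΓSpecIso (CommRingCat.of B)).inv b) = b :=
    congr($((Scheme.ΓSpecIso (CommRingCat.of B)).inv_hom_id) b)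
  rw [e] at hx'
  apply ((ConcreteCategory.bijective_of_isIso (Scheme.ΓSpecIso (CommRingCat.of B)).hom)).1
  rw [map_zero]
  exact hb _ hx'

lemma gfn_dvd {B : Type u} [CommRing B] [Algebra R B] {u v : B} (huv : ∀ x, u ∣ v * x → u ∣ x) :
    ∀ x, gfn (R := R) u ∣ gfn (R := R) v * x → gfn (R := R) u ∣ x := by
  intro x hx
  let e := (Scheme.ΓSpecIso (CommRingCat.of B)).commRingCatIsoToRingEquiv
  have he : ∀ b, e (gfn (R := R) b) = b := fun b =>
    congr($((Scheme.ΓSpecIso (CommRingCat.of B)).inv_hom_id) b)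
  have h := map_dvd e hx
  rw [map_mul, he, he] at h
  have h' := map_dvd e.symm (huv _ h)
  rw [e.symm_apply_apply] at h'
  exact h'

/-- A function which is multiplied by units is cut out invariantly. -/
theorem preimage_invariant {B : Type u} [CommRing B] [Algebra R B] (a : AlgGrp.Action (Gm R) (CoactBr.sp R B))
    (q : B) (hq : ∀ (K : Type u) [Field K] [Algebra R K] (lam : Lau R →ₐ[R] K) (x : B →ₐ[R] K),
      ∃ (y : B →ₐ[R] K) (c : K), c ≠ 0 ∧ lift (CoactBr.pt lam) (CoactBr.pt x) ≫ a.act = CoactBr.pt y ∧ y q = c * x q) :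
    a.act.left ⁻¹ᵁ (CoactBr.sp R B).left.basicOpen (gfn q) =
      (snd (Gm R) (CoactBr.sp R B)).left ⁻¹ᵁ (CoactBr.sp R B).left.basicOpen (gfn q) := by
  ext z
  let K := (Gm R ⊗ CoactBr.sp R B).left.residueField z
  let i := (Gm R ⊗ CoactBr.sp R B).left.fromSpecResidueField z
  letI : Algebra R K := (Spec.preimage (i ≫ (Gm R ⊗ CoactBr.sp R B).hom)).hom.toAlgebra
  let w : CoactBr.sp R K ⟶ Gm R ⊗ CoactBr.sp R B := Over.homMk i (Spec.map_preimage _).symm
  obtain ⟨lam, hlam⟩ := BGaNotS.exists_pt_hom (w ≫ fst _ _)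
  obtain ⟨x, hx⟩ := BGaNotS.exists_pt_hom (w ≫ snd _ _)
  obtain ⟨y, c, hc, hy, hyq⟩ := hq K lam x
  have hw : w ≫ a.act = CoactBr.pt y := by
    rw [← hy, ← hlam, ← hx, ← comp_lift, lift_fst_snd, Category.comp_id]
  let k : Spec (CommRingCat.of K) := IsLocalRing.closedPoint K
  have hi : i k = z := Scheme.fromSpecResidueField_apply _ _
  have h₁ := congrArg (fun m : CoactBr.sp R K ⟶ CoactBr.sp R B => m.left k) hw
  have h₂ := congrArg (fun m : CoactBr.sp R K ⟶ CoactBr.sp R B => m.left k) hx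
  simp only [Over.comp_left, Scheme.Hom.comp_apply, CoactBr.pt_left] at h₁ h₂
  show a.act.left z ∈ (CoactBr.sp R B).left.basicOpen (gfn q) ↔
    (snd (Gm R) (CoactBr.sp R B)).left z ∈ (CoactBr.sp R B).left.basicOpen (gfn q)
  rw [show a.act.left z = _ from (congrArg (fun t => a.act.left t) hi).symm.trans h₁,
    show (snd (Gm R) (CoactBr.sp R B)).left z = _ from
      (congrArg (fun t => (snd (Gm R) (CoactBr.sp R B)).left t) hi).symm.trans h₂]
  refine (BGaNotS.mem_basicOpen_field _ k q).trans ((Iff.trans ?_ (BGaNotS.mem_basicOpen_field _ k q).symm))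
  show y q ≠ 0 ↔ x q ≠ 0
  rw [hyq, mul_ne_zero_iff]
  exact and_iff_right hc

theorem lam_zPow_ne_zero {K : Type u} [Field K] [Algebra R K] (lam : Lau R →ₐ[R] K) (n : ℤ) :
    lam (zPow R n) ≠ 0 := fun hn => by
  have := congrArg lam (ThetaS.zPow_mul R n (-n))
  rw [map_mul, hn, zero_mul, add_neg_cancel, ThetaS.zPow_zero, map_one] at this
  exact zero_ne_one this

/-- Sections extend over the quotient of an affine scheme from the union of two invariant basic opens. -/
theorem extendsUniquely_basicOpen {B : Type u} [CommRing B] [Algebra R B]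
    (a : AlgGrp.Action (Gm R) (CoactBr.sp R B)) (u v : B) (hu : u ∈ B⁰) (hv : v ∈ B⁰)
    (huv : ∀ x, u ∣ v * x → u ∣ x)
    (hiu : a.act.left ⁻¹ᵁ (CoactBr.sp R B).left.basicOpen (gfn u) =
      (snd (Gm R) (CoactBr.sp R B)).left ⁻¹ᵁ (CoactBr.sp R B).left.basicOpen (gfn u))
    (hiv : a.act.left ⁻¹ᵁ (CoactBr.sp R B).left.basicOpen (gfn v) =
      (snd (Gm R) (CoactBr.sp R B)).left ⁻¹ᵁ (CoactBr.sp R B).left.basicOpen (gfn v)) :
    ExtendsUniquely (AlgSt.QuotObj.forget Scheme.fppfPrecoverage (Gm R) a ⋙ Over.forget (Spec (CommRingCat.of R)))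
      (fun A => A.P.left.basicOpen (A.φ.left.appTop (gfn u)) ⊔
        A.P.left.basicOpen (A.φ.left.appTop (gfn v)) = ⊤) := by
  haveI : IsAffine (CoactBr.sp R B).left := inferInstanceAs (IsAffine (Spec (CommRingCat.of B)))
  haveI : IsAffine (Gm R ⊗ CoactBr.sp R B).left := by
    show IsAffine (pullback (Gm R).hom (CoactBr.sp R B).hom)
    exact isAffine_of_isAffineHom (pullback.snd (Gm R).hom (CoactBr.sp R B).hom)
  haveI : Flat (snd (Gm R) (CoactBr.sp R B)).left :=
    inferInstanceAs (Flat (pullback.snd (Gm R).hom (CoactBr.sp R B).hom))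
  refine extendsUniquely_quot
    ((CoactBr.sp R B).left.basicOpen (gfn u) ⊔ (CoactBr.sp R B).left.basicOpen (gfn v)) ?_ ?_ ?_ fun A => ?_
  · rw [Scheme.Hom.preimage_sup, Scheme.Hom.preimage_sup, hiu, hiv]
  · exact bijective_ι_appTop_of_res (bijective_res_sup (gfn_mem hu) (gfn_mem hv) (gfn_dvd huv))
  · refine injective_ι_appTop_of_res (injective_res_of_mem_nonZeroDivisors
      (mem_nonZeroDivisors_of_flat (snd (Gm R) (CoactBr.sp R B)).left (gfn_mem hv)) ?_)
    rw [Scheme.Hom.preimage_sup, ← Scheme.preimage_basicOpen_top]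
    exact le_sup_right
  · rw [Scheme.Hom.preimage_sup, Scheme.preimage_basicOpen_top, Scheme.preimage_basicOpen_top]

variable [IsDomain R] [IsDiscreteValuationRing R]

theorem liftsUniquely_theta {𝒳 𝒴 : AlgSt.Cat S} {f : 𝒳 ⥤ᵇ 𝒴} (h𝒳 : FibCat.IsFibGrpd 𝒳.p)
    (h𝒴 : FibCat.IsFibGrpd 𝒴.p) (hf : AlgSt.RepByAlgSpWith (AlgSp.RepWith @IsAffineHom) f)
    {ϖ : R} (hϖ : Irreducible ϖ) (h : Spec (CommRingCat.of R) ⟶ S) :
    LiftSq.LiftsUniquely (ThetaS.thetaIncl Scheme.fppfPrecoverage R ϖ h) f := by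
  refine liftsUniquely_of_extends h𝒳 h𝒴 hf ?_
  obtain ⟨hX, hC, hdvd⟩ := line_regular hϖ.ne_zero
  refine extendsUniquely_basicOpen (ThetaS.lineAction R) Polynomial.X (Polynomial.C ϖ) hX hC hdvd
    (preimage_invariant _ _ fun K _ _ lam x => ?_) (preimage_invariant _ _ fun K _ _ lam x => ?_)
  all_goals
    have hx : x = ThetaS.linePt (x Polynomial.X) := Polynomial.algHom_ext (by simp [ThetaS.linePt])
  · refine ⟨ThetaS.linePt (lam (zPow R 1) * x Polynomial.X), lam (zPow R 1), lam_zPow_ne_zero lam 1, ?_, ?_⟩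
    · rw [hx, ThetaS.lineAction_pt, ← hx]
    · simp [ThetaS.linePt]
  · refine ⟨ThetaS.linePt (lam (zPow R 1) * x Polynomial.X), 1, one_ne_zero, ?_, ?_⟩
    · rw [hx, ThetaS.lineAction_pt, ← hx]
    · rw [one_mul, ← Polynomial.algebraMap_eq, AlgHom.commutes, AlgHom.commutes]

theorem liftsUniquely_st {𝒳 𝒴 : AlgSt.Cat S} {f : 𝒳 ⥤ᵇ 𝒴} (h𝒳 : FibCat.IsFibGrpd 𝒳.p)
    (h𝒴 : FibCat.IsFibGrpd 𝒴.p) (hf : AlgSt.RepByAlgSpWith (AlgSp.RepWith @IsAffineHom) f)
    {π : R} (hπ : Irreducible π) (h : Spec (CommRingCat.of R) ⟶ S) :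
    LiftSq.LiftsUniquely (ThetaS.stIncl Scheme.fppfPrecoverage R π h) f := by
  refine liftsUniquely_of_extends h𝒳 h𝒴 hf ?_
  obtain ⟨hs, ht, hdvd⟩ := st_regular hπ.prime
  refine extendsUniquely_basicOpen (ThetaS.stAction R π) (ThetaS.sFn R π) (ThetaS.tFn R π) hs ht hdvd
    (preimage_invariant _ _ fun K _ _ lam x => ?_) (preimage_invariant _ _ fun K _ _ lam x => ?_)
  all_goals
    have hab : x (ThetaS.sFn R π) * x (ThetaS.tFn R π) = algebraMap R K π := by
      rw [← map_mul, ThetaS.sFn_mul_tFn, AlgHom.commutes]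
    have hx : x = ThetaS.stPt _ _ hab := ThetaS.stRing_algHom_ext (by simp) (by simp)
    refine ⟨ThetaS.stPt (lam (zPow R 1) * x (ThetaS.sFn R π)) (lam (zPow R (-1)) * x (ThetaS.tFn R π)) (by
      rw [mul_mul_mul_comm, ← map_mul, ThetaS.zPow_mul, hab, show (1 : ℤ) + -1 = 0 from by norm_num,
        ThetaS.zPow_zero, map_one, one_mul]), ?_⟩
    have hact : lift (CoactBr.pt lam) (CoactBr.pt x) ≫ (ThetaS.stAction R π).act = _ :=
      (congrArg (fun t => lift (CoactBr.pt lam) (CoactBr.pt t) ≫ (ThetaS.stAction R π).act) hx).trans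
        (ThetaS.stAction_pt lam _ _ hab)
  · exact ⟨_, lam_zPow_ne_zero lam 1, hact, ThetaS.stPt_sFn _ _ _⟩
  · exact ⟨_, lam_zPow_ne_zero lam (-1), hact, ThetaS.stPt_tFn _ _ _⟩

end Groth.Agent.ThetaAff

end
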