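import Groth.Agent.ThetaAff.Model
import Groth.Prelude.Def_LiftSq
import Groth.Prelude.Def_AlgSt3

/-!
# Dotted arrows of affine functors as families of sections

If every natural family of sections over the objects with a property `Q`, of affine morphisms over the objects
of a category over schemes, extends uniquely to all objects, then every square from the full subcategory of `Q`
against an affine functor can be uniquely filled.
-/

set_option autoImplicit false
set_option backward.isDefEq.respectTransparency false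
set_option backward.isDefEq.respectTransparency.types false
universe v w u

noncomputable section

namespace Groth.Agent.ThetaAff

open CategoryTheory CategoryTheory.Limits AlgebraicGeometry Groth.Agent.FibCatRep

/-- Affine schemes over the objects of a category over schemes, compatible with base change. -/
structure Fam {B : Type w} [Category.{v} B] (p : B ⥤ Scheme.{u}) where
  /-- the scheme over an object -/
  Z : B → Scheme.{u}
  /-- the structure map -/
  π : ∀ b, Z b ⟶ p.obj b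
  aff : ∀ b, IsAffineHom (π b)
  /-- the maps -/
  mp : ∀ {a b : B}, (a ⟶ b) → (Z a ⟶ Z b)
  mp_comp : ∀ {a b c : B} (m : a ⟶ b) (n : b ⟶ c), mp (m ≫ n) = mp m ≫ mp n
  isPullback : ∀ {a b : B} (m : a ⟶ b), IsPullback (mp m) (π a) (π b) (p.map m)

namespace Fam

variable {B : Type w} [Category.{v} B] {p : B ⥤ Scheme.{u}} (𝔉 : Fam p) (Q : B → Prop)

/-- A natural family of sections on the objects with property `Q`. -/
structure Sec where
  /-- the sections -/
  s : ∀ a, Q a → (p.obj a ⟶ 𝔉.Z a)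
  sec : ∀ a ha, s a ha ≫ 𝔉.π a = 𝟙 _
  nat : ∀ {a b} (ha : Q a) (hb : Q b) (m : a ⟶ b), s a ha ≫ 𝔉.mp m = p.map m ≫ s b hb

/-- A natural family of sections on all objects. -/
structure Glob where
  /-- the sections -/
  s : ∀ a, p.obj a ⟶ 𝔉.Z a
  sec : ∀ a, s a ≫ 𝔉.π a = 𝟙 _
  nat : ∀ {a b} (m : a ⟶ b), s a ≫ 𝔉.mp m = p.map m ≫ s b

end Fam

/-- Families of sections of affine morphisms extend uniquely from the objects with property `Q`. -/
def ExtendsUniquely {B : Type w} [Category.{v} B] (p : B ⥤ Scheme.{u}) (Q : B → Prop) : Prop :=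
  ∀ (𝔉 : Fam p) (σ : 𝔉.Sec Q),
    (∃ s : 𝔉.Glob, ∀ a ha, s.s a = σ.s a ha) ∧
      ∀ s s' : 𝔉.Glob, (∀ a, Q a → s.s a = s'.s a) → ∀ b, s.s b = s'.s b

theorem app_map {S : Scheme.{u}} {𝒜 𝒳 : AlgSt.Cat S} {F G : 𝒜 ⥤ᵇ 𝒳} (α : F ⟶ G) (a : 𝒜.obj) :
    𝒳.p.map (α.toNatTrans.app a) = eqToHom ((F.w_obj a).trans (G.w_obj a).symm) := by
  have := α.isHomLift' a
  exact (IsHomLift.fac' 𝒳.p (𝟙 (𝒜.p.obj a)) (α.toNatTrans.app a)).trans (by simp)

namespace Data

variable {S : Scheme.{u}} {𝒳 𝒴 ℬ : AlgSt.Cat S} {f : 𝒳 ⥤ᵇ 𝒴} {bot : ℬ ⥤ᵇ 𝒴}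
  (M : ∀ b, Model f (bot.obj b))

/-- The map of universal objects. -/
def nn {b' b : ℬ.obj} (m : b' ⟶ b) : (M b').x ⟶ (M b).x :=
  ((M b).existsUnique _ ((M b').ν ≫ bot.map m)).choose

lemma nn_spec {b' b : ℬ.obj} (m : b' ⟶ b) : f.map (nn M m) ≫ (M b).ν = (M b').ν ≫ bot.map m :=
  ((M b).existsUnique _ ((M b').ν ≫ bot.map m)).choose_spec.1

lemma hom_ext {b : ℬ.obj} {x' : 𝒳.obj} {n n' : x' ⟶ (M b).x} (h : f.map n ≫ (M b).ν = f.map n' ≫ (M b).ν) :
    n = n' :=
  ((M b).existsUnique _ (f.map n' ≫ (M b).ν)).unique h rfl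

lemma nn_comp {a b c : ℬ.obj} (m : a ⟶ b) (n : b ⟶ c) : nn M (m ≫ n) = nn M m ≫ nn M n :=
  hom_ext M (by rw [nn_spec, Functor.map_comp f.toFunctor, Category.assoc, nn_spec, ← Category.assoc,
    nn_spec, Category.assoc, ← Functor.map_comp])

/-- The structure morphism. -/
def pr (b : ℬ.obj) : 𝒳.p.obj (M b).x ⟶ ℬ.p.obj b :=
  eqToHom (f.w_obj (M b).x).symm ≫ 𝒴.p.map (M b).ν ≫ eqToHom (bot.w_obj b)

lemma map_ν (b : ℬ.obj) :
    𝒴.p.map (M b).ν = eqToHom (f.w_obj (M b).x) ≫ pr M b ≫ eqToHom (bot.w_obj b).symm := by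
  simp [pr]

lemma map_comp_pr {x' : 𝒳.obj} {b : ℬ.obj} (n : x' ⟶ (M b).x) :
    𝒳.p.map n ≫ pr M b = eqToHom (f.w_obj x').symm ≫ 𝒴.p.map (f.map n ≫ (M b).ν) ≫ eqToHom (bot.w_obj b) := by
  simp [pr, map_map]

lemma nn_pr {a b : ℬ.obj} (m : a ⟶ b) : 𝒳.p.map (nn M m) ≫ pr M b = pr M a ≫ ℬ.p.map m := by
  rw [map_comp_pr, nn_spec, Functor.map_comp, map_map bot]
  simp [pr]

variable (h𝒳 : FibCat.IsFibGrpd 𝒳.p) (h𝒴 : FibCat.IsFibGrpd 𝒴.p)
include h𝒳 h𝒴

theorem existsUnique_pt {a b : ℬ.obj} (m : a ⟶ b) {T : Over S} (h : T ⟶ 𝒳.p.obj (M b).x) (g : T ⟶ ℬ.p.obj a)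
    (hg : h ≫ pr M b = g ≫ ℬ.p.map m) :
    ∃! t : T ⟶ 𝒳.p.obj (M a).x, t ≫ 𝒳.p.map (nn M m) = h ∧ t ≫ pr M a = g := by
  obtain ⟨x', ψ, hx, hψ⟩ := exists_lift h𝒳 h
  have hT : 𝒴.p.obj (f.obj x') = T := (f.w_obj x').trans hx
  obtain ⟨χ, ⟨hχ, hc⟩, huχ⟩ := existsUnique_cart h𝒴 (bot.map m) (f.map ψ ≫ (M b).ν)
    (eqToHom hT ≫ g ≫ eqToHom (bot.w_obj a).symm) (by
      have := congrArg (fun t => eqToHom hT ≫ t ≫ eqToHom (bot.w_obj b).symm) hg
      simp only [Category.assoc] at this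
      rw [map_map bot, Functor.map_comp, map_map f, map_ν, hψ]
      simpa using this.symm)
  obtain ⟨n, hn, -⟩ := (M a).existsUnique x' χ
  have hnm : n ≫ nn M m = ψ := hom_ext M (by
    rw [Functor.map_comp f.toFunctor, Category.assoc, nn_spec, ← Category.assoc, hn, hc])
  refine ⟨eqToHom hx.symm ≫ 𝒳.p.map n, ⟨?_, ?_⟩, fun t ht => ?_⟩
  · rw [Category.assoc, ← Functor.map_comp, hnm, hψ]
    simp
  · rw [Category.assoc, map_comp_pr, hn, hχ]
    simp
  · obtain ⟨n', ⟨hn', hc'⟩, -⟩ := existsUnique_cart h𝒳 (nn M m) ψ (eqToHom hx ≫ t)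
      (by rw [Category.assoc, ht.1, hψ])
    have hfn : f.map n' ≫ (M a).ν = χ := huχ _ ⟨by
      rw [Functor.map_comp, map_map f, map_ν, hn', ← ht.2]
      simp, by rw [Category.assoc, ← nn_spec, ← Category.assoc, ← Functor.map_comp f.toFunctor, hc']⟩
    have : n' = n := hom_ext M (hfn.trans hn.symm)
    rw [← this, hn']
    simp

theorem isPullback_nn {a b : ℬ.obj} (m : a ⟶ b) :
    IsPullback (𝒳.p.map (nn M m)) (pr M a) (pr M b) (ℬ.p.map m) :=
  IsPullback.of_isLimit' ⟨nn_pr M m⟩ (PullbackCone.IsLimit.mk _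
    (fun s => (existsUnique_pt M h𝒳 h𝒴 m s.fst s.snd s.condition).choose)
    (fun s => (existsUnique_pt M h𝒳 h𝒴 m s.fst s.snd s.condition).choose_spec.1.1)
    (fun s => (existsUnique_pt M h𝒳 h𝒴 m s.fst s.snd s.condition).choose_spec.1.2)
    (fun s t h₁ h₂ => (existsUnique_pt M h𝒳 h𝒴 m s.fst s.snd s.condition).choose_spec.2 t ⟨h₁, h₂⟩))

/-- The family attached to the bottom of a square. -/
def fam : Fam (ℬ.p ⋙ Over.forget S) where
  Z b := (𝒳.p.obj (M b).x).left
  π b := (pr M b).left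
  aff b := by
    haveI := (M b).affine
    simp only [pr, Over.comp_left]
    infer_instance
  mp m := (𝒳.p.map (nn M m)).left
  mp_comp m n := by rw [nn_comp, Functor.map_comp, Over.comp_left]
  isPullback m := (isPullback_nn M h𝒳 h𝒴 m).map (Over.forget S)

omit h𝒴 in
/-- A section as a morphism over the base. -/
theorem exists_over_sec {b : ℬ.obj} (s : (ℬ.p.obj b).left ⟶ (𝒳.p.obj (M b).x).left)
    (hs : s ≫ (pr M b).left = 𝟙 _) : ∃ t : ℬ.p.obj b ⟶ 𝒳.p.obj (M b).x, t.left = s ∧ t ≫ pr M b = 𝟙 _ :=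
  ⟨Over.homMk s (by rw [← Over.w (pr M b), ← Category.assoc, hs, Category.id_comp]), rfl,
    Over.OverMorphism.ext hs⟩

end Data

open Data in
theorem liftsUniquely_of_extends {S : Scheme.{u}} {𝒳 𝒴 ℬ : AlgSt.Cat S} {f : 𝒳 ⥤ᵇ 𝒴}
    (h𝒳 : FibCat.IsFibGrpd 𝒳.p) (h𝒴 : FibCat.IsFibGrpd 𝒴.p)
    (hf : AlgSt.RepByAlgSpWith (AlgSp.RepWith @IsAffineHom) f) {Q : ℬ.obj → Prop}
    (hQ : ExtendsUniquely (ℬ.p ⋙ Over.forget S) Q) : LiftSq.LiftsUniquely (AlgSt.subIncl ℬ Q) f := by
  intro sq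
  let M : ∀ b, Model f (sq.bot.obj b) := fun b => (exists_model' h𝒴 hf (sq.bot.obj b)).some
  let 𝔉 := fam M h𝒳 h𝒴
  have hσ : ∀ a : (AlgSt.fullSub ℬ Q).obj, ∃ n : sq.top.obj a ⟶ (M a.obj).x,
      f.map n ≫ (M a.obj).ν = sq.iso.inv.toNatTrans.app a := fun a =>
    ((M a.obj).existsUnique _ _).exists
  choose na hna using hσ
  have hna_nat : ∀ {a a' : (AlgSt.fullSub ℬ Q).obj} (m : a ⟶ a'),
      na a ≫ nn M m.hom = sq.top.map m ≫ na a' := fun {a a'} m => hom_ext M (by
    rw [Functor.map_comp f.toFunctor, Functor.map_comp f.toFunctor, Category.assoc, Category.assoc, nn_spec, hna,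
      ← Category.assoc, hna]
    exact (sq.iso.inv.toNatTrans.naturality m).symm)
  have hσsec : ∀ a : (AlgSt.fullSub ℬ Q).obj,
      (eqToHom (sq.top.w_obj a).symm ≫ 𝒳.p.map (na a)) ≫ pr M a.obj = 𝟙 (ℬ.p.obj a.obj) := fun a => by
    have h1 := app_map sq.iso.inv a
    rw [← hna] at h1
    rw [Category.assoc, map_comp_pr, h1]
    simp
  let σ : 𝔉.Sec Q :=
    { s := fun a ha => (eqToHom (sq.top.w_obj ⟨a, ha⟩).symm ≫ 𝒳.p.map (na ⟨a, ha⟩)).left
      sec := fun a ha => by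
        have := congrArg CommaMorphism.left (hσsec ⟨a, ha⟩)
        exact this
      nat := fun {a b} ha hb m => by
        have h1 := hna_nat (a := ⟨a, ha⟩) (a' := ⟨b, hb⟩) (ObjectProperty.homMk m)
        have h2 := map_map sq.top (ObjectProperty.homMk m : (⟨a, ha⟩ : (AlgSt.fullSub ℬ Q).obj) ⟶ ⟨b, hb⟩)
        have : (eqToHom (sq.top.w_obj ⟨a, ha⟩).symm ≫ 𝒳.p.map (na ⟨a, ha⟩)) ≫ 𝒳.p.map (nn M m) =
            ℬ.p.map m ≫ eqToHom (sq.top.w_obj ⟨b, hb⟩).symm ≫ 𝒳.p.map (na ⟨b, hb⟩) := by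
          rw [Category.assoc, ← Functor.map_comp]
          erw [h1]
          rw [Functor.map_comp, h2]
          simp
        exact congrArg CommaMorphism.left this }
  have cmp : ∀ d : sq.Lift, ∃ n : ∀ b, d.fn.obj b ⟶ (M b).x,
      (∀ b, f.map (n b) ≫ (M b).ν = d.isoBot.inv.toNatTrans.app b) ∧
      (∀ {b b'} (m : b ⟶ b'), n b ≫ nn M m = d.fn.map m ≫ n b') ∧
      (∀ a, d.isoTop.hom.toNatTrans.app a ≫ na a = n a.obj) ∧
      ∃ s : 𝔉.Glob, (∀ b, s.s b = (eqToHom (d.fn.w_obj b).symm ≫ 𝒳.p.map (n b)).left) ∧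
        ∀ a ha, s.s a = σ.s a ha := by
    intro d
    have h : ∀ b, ∃ n : d.fn.obj b ⟶ (M b).x, f.map n ≫ (M b).ν = d.isoBot.inv.toNatTrans.app b := fun b =>
      ((M b).existsUnique _ _).exists
    choose n hn using h
    have hnat : ∀ {b b'} (m : b ⟶ b'), n b ≫ nn M m = d.fn.map m ≫ n b' := fun {b b'} m => hom_ext M (by
      rw [Functor.map_comp f.toFunctor, Functor.map_comp f.toFunctor, Category.assoc, Category.assoc, nn_spec, hn,
        ← Category.assoc, hn]
      exact (d.isoBot.inv.toNatTrans.naturality m).symm)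
    have htop : ∀ a, d.isoTop.hom.toNatTrans.app a ≫ na a = n a.obj := fun a => hom_ext M (by
      rw [Functor.map_comp f.toFunctor, Category.assoc, hna, hn]
      have h : d.isoBot.hom.toNatTrans.app a.obj ≫ f.map (d.isoTop.hom.toNatTrans.app a) =
          sq.iso.hom.toNatTrans.app a := congrArg (fun t => t.toNatTrans.app a) d.w
      have e1 : d.isoBot.inv.toNatTrans.app a.obj ≫ d.isoBot.hom.toNatTrans.app a.obj = 𝟙 _ :=
        congrArg (fun t => t.toNatTrans.app a.obj) d.isoBot.inv_hom_id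
      have e2 : sq.iso.hom.toNatTrans.app a ≫ sq.iso.inv.toNatTrans.app a = 𝟙 _ :=
        congrArg (fun t => t.toNatTrans.app a) sq.iso.hom_inv_id
      calc _ = (d.isoBot.inv.toNatTrans.app a.obj ≫ d.isoBot.hom.toNatTrans.app a.obj) ≫
            f.map (d.isoTop.hom.toNatTrans.app a) ≫ sq.iso.inv.toNatTrans.app a := by
              rw [e1]; exact (Category.id_comp _).symm
        _ = _ := by
              rw [Category.assoc, reassoc_of% h, e2]; exact Category.comp_id _)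
    refine ⟨n, hn, hnat, htop, ⟨fun b => (eqToHom (d.fn.w_obj b).symm ≫ 𝒳.p.map (n b)).left, fun b => ?_,
      fun {b b'} m => ?_⟩, fun _ => rfl, fun a ha => ?_⟩
    · have h1 := app_map d.isoBot.inv b
      rw [← hn] at h1
      have : (eqToHom (d.fn.w_obj b).symm ≫ 𝒳.p.map (n b)) ≫ pr M b = 𝟙 _ := by
        rw [Category.assoc, map_comp_pr, h1]
        simp
      exact congrArg CommaMorphism.left this
    · have : (eqToHom (d.fn.w_obj b).symm ≫ 𝒳.p.map (n b)) ≫ 𝒳.p.map (nn M m) =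
          ℬ.p.map m ≫ eqToHom (d.fn.w_obj b').symm ≫ 𝒳.p.map (n b') := by
        rw [Category.assoc, ← Functor.map_comp, hnat m, Functor.map_comp, map_map d.fn]
        simp
      exact congrArg CommaMorphism.left this
    · have h1 := congrArg (fun t => 𝒳.p.map t) (htop ⟨a, ha⟩)
      dsimp only at h1
      rw [Functor.map_comp, app_map] at h1
      show (eqToHom _ ≫ 𝒳.p.map (n a)).left = (eqToHom _ ≫ 𝒳.p.map (na ⟨a, ha⟩)).left
      rw [← h1, eqToHom_trans_assoc]
  refine ⟨?_, fun d d' => ?_⟩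
  · obtain ⟨s, hs⟩ := (hQ 𝔉 σ).1
    have hso := fun b => exists_over_sec M h𝒳 (s.s b) (s.sec b)
    choose t ht htπ using hso
    have hl := fun b => exists_lift h𝒳 (t b)
    choose xo ψ hxo hψ using hl
    have ht_nat : ∀ {b b'} (m : b ⟶ b'), t b ≫ 𝒳.p.map (nn M m) = ℬ.p.map m ≫ t b' := fun {b b'} m =>
      Over.OverMorphism.ext (by rw [Over.comp_left, Over.comp_left, ht, ht]; exact s.nat m)
    have hm : ∀ {b b'} (m : b ⟶ b'), ∃! k : xo b ⟶ xo b',
        𝒳.p.map k = eqToHom (hxo b) ≫ ℬ.p.map m ≫ eqToHom (hxo b').symm ∧ k ≫ ψ b' = ψ b ≫ nn M m :=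
      fun {b b'} m => existsUnique_cart h𝒳 _ _ _ (by
        rw [Functor.map_comp, hψ, hψ, Category.assoc, Category.assoc, Category.assoc, ht_nat, eqToHom_trans_assoc,
          eqToHom_refl, Category.id_comp])
    have nn_id : ∀ b, nn M (𝟙 b) = 𝟙 _ := fun b => hom_ext M (by
      rw [nn_spec, CategoryTheory.Functor.map_id sq.bot.toFunctor, CategoryTheory.Functor.map_id f.toFunctor]
      exact (Category.comp_id _).trans (Category.id_comp _).symm)
    let fn : ℬ ⥤ᵇ 𝒳 :=
      { toFunctor :=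
          { obj := xo
            map := fun m => (hm m).choose
            map_id := fun b => ((hm (𝟙 b)).choose_spec.2 _ ⟨by simp, by rw [nn_id]; simp⟩).symm
            map_comp := fun {b₁ b₂ b₃} m m' => ((hm (m ≫ m')).choose_spec.2 _
              ⟨by
                rw [Functor.map_comp 𝒳.p, (hm m).choose_spec.1.1, (hm m').choose_spec.1.1, Functor.map_comp]
                simp, by
                rw [Category.assoc, (hm m').choose_spec.1.2, ← Category.assoc, (hm m).choose_spec.1.2,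
                  Category.assoc, nn_comp]⟩).symm }
        w := CategoryTheory.Functor.ext hxo fun b b' m => (hm m).choose_spec.1.1 }
    have hbm : ∀ b, 𝒴.p.map (f.map (ψ b) ≫ (M b).ν) =
        eqToHom (((f.w_obj (xo b)).trans (hxo b)).trans (sq.bot.w_obj b).symm) := fun b => by
      rw [Functor.map_comp, map_map f, map_ν, hψ]
      simp [reassoc_of% (htπ b)]
    have hbi : ∀ b, IsIso (f.map (ψ b) ≫ (M b).ν) := fun b => by
      haveI : IsIso (𝒴.p.map (f.map (ψ b) ≫ (M b).ν)) := by rw [hbm]; infer_instance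
      exact isIso_of_map h𝒴 _
    let eB : BasedFunctor.comp fn f ≅ sq.bot := BasedNatIso.mkNatIso
      (NatIso.ofComponents (fun b => @asIso _ _ _ _ _ (hbi b)) fun {b b'} m => by
        show f.map (hm m).choose ≫ f.map (ψ b') ≫ (M b').ν = (f.map (ψ b) ≫ (M b).ν) ≫ sq.bot.map m
        rw [← Category.assoc, ← Functor.map_comp f.toFunctor, (hm m).choose_spec.1.2, Functor.map_comp f.toFunctor,
          Category.assoc, Category.assoc, nn_spec])
      fun b => IsHomLift.of_fac' 𝒴.p (𝟙 _) _ ((f.w_obj (xo b)).trans (hxo b)) (sq.bot.w_obj b)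
        (show 𝒴.p.map (f.map (ψ b) ≫ (M b).ν) = _ by rw [hbm]; simp)
    have hα : ∀ a : (AlgSt.fullSub ℬ Q).obj, ∃ α : xo a.obj ⟶ sq.top.obj a,
        𝒳.p.map α = eqToHom ((hxo a.obj).trans (sq.top.w_obj a).symm) ∧ α ≫ na a = ψ a.obj := by
      intro a
      refine (existsUnique_cart h𝒳 (na a) (ψ a.obj) _ ?_).exists
      have : t a.obj = eqToHom (sq.top.w_obj a).symm ≫ 𝒳.p.map (na a) :=
        Over.OverMorphism.ext (by rw [ht]; exact hs a.obj a.property)
      rw [hψ, this]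
      simp
    choose α hαp hαc using hα
    have hαi : ∀ a, IsIso (α a) := fun a => by
      haveI : IsIso (𝒳.p.map (α a)) := by rw [hαp]; infer_instance
      exact isIso_of_map h𝒳 _
    let eT : BasedFunctor.comp (AlgSt.subIncl ℬ Q) fn ≅ sq.top := BasedNatIso.mkNatIso
      (NatIso.ofComponents (fun a => @asIso _ _ _ _ (α a) (hαi a)) fun {a a'} m => by
        show (hm m.hom).choose ≫ α a' = α a ≫ sq.top.map m
        refine cancel h𝒳 (na a') ?_ ?_
        · rw [Functor.map_comp, Functor.map_comp, hαp, hαp, (hm m.hom).choose_spec.1.1, map_map sq.top]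
          simp
        · rw [Category.assoc, Category.assoc, hαc, (hm m.hom).choose_spec.1.2, ← hna_nat, reassoc_of% (hαc a)])
      fun a => IsHomLift.of_fac' 𝒳.p (𝟙 _) _ (hxo a.obj) (sq.top.w_obj a)
        (show 𝒳.p.map (α a) = _ by rw [hαp]; simp)
    refine ⟨⟨fn, eT, eB.symm, ?_⟩⟩
    apply BasedNatTrans.homCategory.ext
    ext a
    show (@asIso _ _ _ _ _ (hbi a.obj)).inv ≫ f.map (α a) = sq.iso.hom.toNatTrans.app a
    haveI := hbi a.obj
    have e2 : sq.iso.inv.toNatTrans.app a ≫ sq.iso.hom.toNatTrans.app a = 𝟙 _ :=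
      congrArg (fun t => t.toNatTrans.app a) sq.iso.inv_hom_id
    have key : f.map (α a) ≫ sq.iso.inv.toNatTrans.app a = f.map (ψ a.obj) ≫ (M a.obj).ν := by
      rw [← hna, ← Category.assoc, ← Functor.map_comp f.toFunctor, hαc]
    rw [asIso_inv, IsIso.inv_comp_eq]
    calc f.map (α a) = f.map (α a) ≫ sq.iso.inv.toNatTrans.app a ≫ sq.iso.hom.toNatTrans.app a := by
          rw [e2]; exact (Category.comp_id _).symm
      _ = _ := (Category.assoc _ _ _).symm.trans (congrArg (· ≫ sq.iso.hom.toNatTrans.app a) key)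
  · obtain ⟨n, hn, hnat, htop, s, hs, hsσ⟩ := cmp d
    obtain ⟨n', hn', hnat', htop', s', hs', hsσ'⟩ := cmp d'
    have hss := (hQ 𝔉 σ).2 s s' fun a ha => (hsσ a ha).trans (hsσ' a ha).symm
    have he : ∀ b, eqToHom ((d.fn.w_obj b).trans (d'.fn.w_obj b).symm) ≫ 𝒳.p.map (n' b) = 𝒳.p.map (n b) := by
      intro b
      have h1 : eqToHom (d.fn.w_obj b).symm ≫ 𝒳.p.map (n b) = eqToHom (d'.fn.w_obj b).symm ≫ 𝒳.p.map (n' b) :=
        Over.OverMorphism.ext ((hs b).symm.trans ((hss b).trans (hs' b)))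
      rw [← cancel_epi (eqToHom (d.fn.w_obj b).symm), h1, eqToHom_trans_assoc]
    have hθ := fun b => existsUnique_cart h𝒳 (n' b) (n b) _ (he b)
    choose θ hθ huθ using hθ
    let Θ : d.fn ⟶ d'.fn :=
      { app := θ
        naturality := fun b b' m => cancel h𝒳 (n' b') (by
            rw [Functor.map_comp, Functor.map_comp, (hθ b).1, (hθ b').1, map_map d.fn, map_map d'.fn]
            simp)
          (by rw [Category.assoc, Category.assoc, (hθ b').2, ← hnat', ← Category.assoc, (hθ b).2, hnat])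
        isHomLift' := fun b => IsHomLift.of_fac' 𝒳.p (𝟙 _) _ (d.fn.w_obj b) (d'.fn.w_obj b)
          (show 𝒳.p.map (θ b) = _ by rw [(hθ b).1]; simp) }
    have e' : ∀ b, d'.isoBot.hom.toNatTrans.app b ≫ d'.isoBot.inv.toNatTrans.app b = 𝟙 _ := fun b =>
      congrArg (fun t => t.toNatTrans.app b) d'.isoBot.hom_inv_id
    refine ⟨⟨⟨⟨Θ, ?_, ?_⟩⟩, fun η => ?_⟩⟩
    · apply BasedNatTrans.homCategory.ext
      ext a
      show θ a.obj ≫ d'.isoTop.hom.toNatTrans.app a = d.isoTop.hom.toNatTrans.app a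
      refine cancel h𝒳 (na a) ?_ ?_
      · rw [Functor.map_comp, (hθ a.obj).1, app_map, app_map]
        simp
      · rw [Category.assoc, htop', (hθ a.obj).2, htop]
    · apply BasedNatTrans.homCategory.ext
      ext b
      show d.isoBot.hom.toNatTrans.app b ≫ f.map (θ b) = d'.isoBot.hom.toNatTrans.app b
      have h1 : f.map (θ b) ≫ d'.isoBot.inv.toNatTrans.app b = d.isoBot.inv.toNatTrans.app b := by
        rw [← hn', ← Category.assoc, ← Functor.map_comp f.toFunctor, (hθ b).2, hn]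
      have e1 : d.isoBot.hom.toNatTrans.app b ≫ d.isoBot.inv.toNatTrans.app b = 𝟙 _ :=
        congrArg (fun t => t.toNatTrans.app b) d.isoBot.hom_inv_id
      have e2 : d'.isoBot.inv.toNatTrans.app b ≫ d'.isoBot.hom.toNatTrans.app b = 𝟙 _ :=
        congrArg (fun t => t.toNatTrans.app b) d'.isoBot.inv_hom_id
      calc _ = d.isoBot.hom.toNatTrans.app b ≫ (f.map (θ b) ≫ d'.isoBot.inv.toNatTrans.app b) ≫
            d'.isoBot.hom.toNatTrans.app b := by
              rw [Category.assoc, e2]; exact congrArg _ (Category.comp_id _).symm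
        _ = _ := by rw [h1, reassoc_of% e1]
    · apply LiftSq.Sq.Lift.hom_ext
      apply BasedNatTrans.homCategory.ext
      ext b
      show η.hom.toNatTrans.app b = θ b
      refine huθ b _ ⟨by rw [app_map], hom_ext M ?_⟩
      have h1 : d.isoBot.hom.toNatTrans.app b ≫ f.map (η.hom.toNatTrans.app b) =
          d'.isoBot.hom.toNatTrans.app b := congrArg (fun t => t.toNatTrans.app b) η.w_bot
      have e1 : d.isoBot.inv.toNatTrans.app b ≫ d.isoBot.hom.toNatTrans.app b = 𝟙 _ :=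
        congrArg (fun t => t.toNatTrans.app b) d.isoBot.inv_hom_id
      rw [Functor.map_comp f.toFunctor, Category.assoc, hn', hn]
      calc _ = (d.isoBot.inv.toNatTrans.app b ≫ d.isoBot.hom.toNatTrans.app b) ≫
            f.map (η.hom.toNatTrans.app b) ≫ d'.isoBot.inv.toNatTrans.app b := by
              rw [e1]; exact (Category.id_comp _).symm
        _ = _ := by rw [Category.assoc, reassoc_of% h1, e']; exact Category.comp_id _

end Groth.Agent.ThetaAff

end
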