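import Groth.Agent.ThetaAff.General
import Groth.Agent.AlgStLib.QuotDescend

/-!
# Sections of affine morphisms on quotient stacks extend from a big open substack

`X` is affine, `U ⊆ X` an invariant open such that functions on `U` are the functions on `X` and the functions
on `G × X` are determined on `G × U`.
-/

set_option autoImplicit false
set_option backward.isDefEq.respectTransparency false
set_option backward.isDefEq.respectTransparency.types false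
universe u

noncomputable section

namespace Groth.Agent.ThetaAff

open CategoryTheory CategoryTheory.Limits MonoidalCategory CartesianMonoidalCategory MonObj AlgebraicGeometry
  Groth.Agent.AlgStLib.Quot Groth.Agent.FibCatRep Groth.Agent.AlgStLib

theorem ext_of_injective {V X Y : Scheme.{u}} [IsAffine X] [IsAffine Y] (i : V ⟶ X)
    (hi : Function.Injective i.appTop.hom) {f f' : X ⟶ Y} (h : i ≫ f = i ≫ f') : f = f' := by
  refine ext_of_isAffine ?_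
  ext a
  apply hi
  exact congr(($h).appTop a)

theorem exists_ext_of_bijective {V X Y : Scheme.{u}} [IsAffine X] [IsAffine Y] (i : V ⟶ X)
    (hi : Function.Bijective i.appTop.hom) (g : V ⟶ Y) : ∃ f : X ⟶ Y, i ≫ f = g := by
  haveI : IsIso i.appTop := (ConcreteCategory.isIso_iff_bijective _).2 hi
  refine ⟨X.toSpecΓ ≫ Spec.map (g.appTop ≫ inv i.appTop) ≫ Y.isoSpec.inv, ?_⟩
  rw [← cancel_mono Y.isoSpec.hom]
  simp only [Category.assoc, Iso.inv_hom_id, Category.comp_id]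
  rw [Scheme.toSpecΓ_naturality_assoc, ← Spec.map_comp, Category.assoc, IsIso.inv_hom_id, Category.comp_id,
    ← Scheme.toSpecΓ_naturality]
  rfl

variable {S : Scheme.{u}} {G X : Over S} [GrpObj G] {aX : AlgGrp.Action G X}

local notation "qm" => AlgSt.quotMap Scheme.fppfPrecoverage G aX
local notation "pS" => (AlgSt.QuotObj.forget Scheme.fppfPrecoverage G aX ⋙ Over.forget S)

/-- The object of the atlas. -/
abbrev q0 (aX : AlgGrp.Action G X) : AlgSt.QuotObj Scheme.fppfPrecoverage G aX :=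
  (AlgSt.quotMap Scheme.fppfPrecoverage G aX).obj (qpt X (𝟙 X))

/-- A point of `X` as a map to the atlas. -/
abbrev toQ0 {T : Over S} (x : T ⟶ X) : (qm).obj (qpt T x) ⟶ q0 aX :=
  (qm).map (⟨x, congrArg ULift.up (Category.comp_id x)⟩ : qpt T x ⟶ qpt X (𝟙 X))

/-- Every object is covered by a trivial torsor. -/
abbrev cov (b : AlgSt.QuotObj Scheme.fppfPrecoverage G aX) : (qm).obj (qpt b.P (𝟙 b.P ≫ b.φ)) ⟶ b :=
  trivHom b (𝟙 b.P)

lemma cov_base (b : AlgSt.QuotObj Scheme.fppfPrecoverage G aX) : (cov b).base.left = b.π.left := by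
  show (𝟙 b.P ≫ b.π).left = _
  rw [Category.id_comp]

variable [IsAffineHom G.hom] [Flat G.hom] [LocallyOfFinitePresentation G.hom]

lemma effectiveEpi_π (b : AlgSt.QuotObj Scheme.fppfPrecoverage G aX) : EffectiveEpi b.π.left := by
  obtain ⟨h₁, h₂, -⟩ := fppf_π b
  haveI := isAffineHom_π b
  infer_instance

theorem preimage_base_iff {U : X.left.Opens}
    (hU : aX.act.left ⁻¹ᵁ U = (snd G X).left ⁻¹ᵁ U)
    {b : AlgSt.QuotObj Scheme.fppfPrecoverage G aX} (g : b ⟶ q0 aX) :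
    b.φ.left ⁻¹ᵁ U = ⊤ ↔ g.base.left ⁻¹ᵁ U = ⊤ := by
  have h₁ : b.φ.left = g.top.left ≫ aX.act.left := by
    have e : (G ◁ 𝟙 X) ≫ aX.act = aX.act := by rw [MonoidalCategory.whiskerLeft_id, Category.id_comp]
    have h : g.top ≫ (G ◁ 𝟙 X) ≫ aX.act = b.φ := g.wφ
    exact (congrArg CommaMorphism.left (h.symm.trans (congrArg (g.top ≫ ·) e))).trans rfl
  have h₂ : g.top.left ≫ (snd G X).left = b.π.left ≫ g.base.left := congrArg CommaMorphism.left g.cart.w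
  have h₃ : b.φ.left ⁻¹ᵁ U = b.π.left ⁻¹ᵁ (g.base.left ⁻¹ᵁ U) := by
    rw [h₁, Scheme.Hom.comp_preimage, hU, ← Scheme.Hom.comp_preimage, h₂, Scheme.Hom.comp_preimage]
  rw [h₃]
  constructor
  · intro h
    haveI := (fppf_π b).2.1
    ext x
    obtain ⟨y, rfl⟩ := b.π.left.surjective x
    exact iff_of_true (show y ∈ b.π.left ⁻¹ᵁ (g.base.left ⁻¹ᵁ U) by rw [h]; trivial) trivial
  · intro h
    rw [h]
    rfl

/-- Sections of affine morphisms extend uniquely. -/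
theorem extendsUniquely_quot [IsAffine X.left] [IsAffine (G ⊗ X).left] (U : X.left.Opens)
    (hU : aX.act.left ⁻¹ᵁ U = (snd G X).left ⁻¹ᵁ U)
    (hΓ : Function.Bijective U.ι.appTop.hom)
    (hW : Function.Injective ((snd G X).left ⁻¹ᵁ U).ι.appTop.hom)
    {Q : AlgSt.QuotObj Scheme.fppfPrecoverage G aX → Prop} (hQ : ∀ A, Q A ↔ A.φ.left ⁻¹ᵁ U = ⊤) :
    ExtendsUniquely pS Q := by
  intro 𝔉 σ
  have hgr := isFibGrpd G aX
  have hQg : ∀ {b} (g : b ⟶ q0 aX), Q b ↔ g.base.left ⁻¹ᵁ U = ⊤ := fun g =>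
    (hQ _).trans (preimage_base_iff hU g)
  have hQmor : ∀ {a b : AlgSt.QuotObj Scheme.fppfPrecoverage G aX}, (a ⟶ b) → Q b → Q a := fun {a b} m hb => by
    rw [hQ] at hb ⊢
    rw [← m.wφ, Over.comp_left, Scheme.Hom.comp_preimage, hb]
    rfl
  haveI := fun b => 𝔉.aff b
  haveI hX0 : IsAffine ((pS).obj (q0 aX)) := inferInstanceAs (IsAffine X.left)
  haveI hZ0 : IsAffine (𝔉.Z (q0 aX)) := isAffine_of_isAffineHom (𝔉.π (q0 aX))
  let UO : Over S := Over.mk (U.ι ≫ X.hom)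
  let ιO : UO ⟶ (q0 aX).base := Over.homMk U.ι rfl
  let i₀ : pullObj (q0 aX) ιO ⟶ q0 aX := pullHom (q0 aX) ιO
  have ha₀ : Q (pullObj (q0 aX) ιO) := (hQg i₀).2 U.ι_preimage_self
  obtain ⟨s₀, hs₀⟩ : ∃ s₀ : X.left ⟶ 𝔉.Z (q0 aX), U.ι ≫ s₀ = σ.s _ ha₀ ≫ 𝔉.mp i₀ :=
    exists_ext_of_bijective U.ι hΓ _
  have hs₀π : s₀ ≫ 𝔉.π (q0 aX) = 𝟙 X.left := by
    refine ext_of_injective U.ι hΓ.1 ?_
    rw [reassoc_of% hs₀, (𝔉.isPullback i₀).w, ← Category.assoc, σ.sec]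
    exact (Category.id_comp _).trans (Category.comp_id U.ι).symm
  have hval : ∀ {b} (g : b ⟶ q0 aX), ∃ t : (pS).obj b ⟶ 𝔉.Z b,
      t ≫ 𝔉.π b = 𝟙 _ ∧ t ≫ 𝔉.mp g = g.base.left ≫ s₀ := fun {b} g =>
    ⟨(𝔉.isPullback g).lift (g.base.left ≫ s₀) (𝟙 _) (by
        rw [Category.assoc, hs₀π]
        exact (Category.comp_id _).trans (Category.id_comp _).symm),
      (𝔉.isPullback g).lift_snd _ _ _, (𝔉.isPullback g).lift_fst _ _ _⟩
  choose val hvalπ hvals using @hval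
  have hval_eq : ∀ {b} (g : b ⟶ q0 aX) (t : (pS).obj b ⟶ 𝔉.Z b),
      t ≫ 𝔉.π b = 𝟙 _ → t ≫ 𝔉.mp g = g.base.left ≫ s₀ → t = val g := fun g t h₁ h₂ =>
    (𝔉.isPullback g).hom_ext (h₂.trans (hvals g).symm) (h₁.trans (hvalπ g).symm)
  have hval_nat : ∀ {a b} (k : a ⟶ b) (g : b ⟶ q0 aX),
      val (k ≫ g) ≫ 𝔉.mp k = k.base.left ≫ val g := fun {a b} k g => by
    refine (𝔉.isPullback g).hom_ext ?_ ?_
    · rw [Category.assoc, Category.assoc, ← 𝔉.mp_comp, hvals, hvals, ← Category.assoc]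
      rfl
    · rw [Category.assoc, (𝔉.isPullback k).w, ← Category.assoc, hvalπ, Category.assoc, hvalπ]
      exact (Category.id_comp _).trans (Category.comp_id _).symm
  have hcons : ∀ {a} (ha : Q a) (g : a ⟶ q0 aX), σ.s a ha = val g := fun {a} ha g => by
    have hr : g.base.left ⁻¹ᵁ U = ⊤ := (hQg g).1 ha
    have hrange : Set.range g.base.left ⊆ Set.range U.ι := by
      rw [U.range_ι]
      rintro _ ⟨z, rfl⟩
      have : z ∈ g.base.left ⁻¹ᵁ U := by rw [hr]; trivial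
      exact this
    let l : a.base ⟶ UO := Over.homMk (IsOpenImmersion.lift U.ι g.base.left hrange)
      (by
        show _ ≫ U.ι ≫ X.hom = _
        rw [IsOpenImmersion.lift_fac_assoc]
        exact Over.w g.base)
    obtain ⟨g', ⟨hg', hg'c⟩, -⟩ := existsUnique_cart hgr i₀ g l
      (Over.OverMorphism.ext (IsOpenImmersion.lift_fac _ _ _))
    refine hval_eq g _ (σ.sec a ha) ?_
    have hb : g'.base = l := hg'
    rw [← hg'c, 𝔉.mp_comp, ← Category.assoc, σ.nat ha ha₀ g', Category.assoc, ← hs₀]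
    show g'.base.left ≫ U.ι ≫ s₀ = (g'.base ≫ ιO).left ≫ s₀
    rw [Over.comp_left, Category.assoc]
    rfl
  have hpair : val (toQ0 (aX := aX) (𝟙 (q0 aX).P ≫ (q0 aX).φ)) = val (cov (q0 aX)) := by
    let q₁ := (qm).obj (qpt (q0 aX).P (𝟙 (q0 aX).P ≫ (q0 aX).φ))
    let W := (snd G X).left ⁻¹ᵁ U
    let WO : Over S := Over.mk (W.ι ≫ (G ⊗ X).hom)
    let i₁ : pullObj q₁ (Over.homMk W.ι rfl : WO ⟶ q₁.base) ⟶ q₁ := pullHom _ _
    haveI : IsAffine ((pS).obj q₁) := inferInstanceAs (IsAffine (G ⊗ X).left)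
    haveI : IsAffine (𝔉.Z q₁) := isAffine_of_isAffineHom (𝔉.π q₁)
    have ha₁ : Q (pullObj q₁ (Over.homMk W.ι rfl : WO ⟶ q₁.base)) := (hQg (i₁ ≫ cov (q0 aX))).2 (by
      show (W.ι ≫ (cov (q0 aX)).base.left) ⁻¹ᵁ U = ⊤
      rw [cov_base, Scheme.Hom.comp_preimage]
      exact W.ι_preimage_self)
    refine ext_of_injective W.ι hW ?_
    exact ((hval_nat i₁ _).symm.trans (congrArg (· ≫ 𝔉.mp i₁) (((hcons ha₁ _).symm).trans (hcons ha₁ _)))).trans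
      (hval_nat i₁ _)
  have hindep₀ : ∀ {T : Over S} (x : T ⟶ X) (g₁ g₂ : (qm).obj (qpt T x) ⟶ q0 aX), val g₁ = val g₂ := by
    intro T x g₁ g₂
    obtain ⟨χ, ⟨hχ, hχc⟩, -⟩ := existsUnique_cart hgr (toQ0 (aX := aX) (g₁.base : T ⟶ X)) g₁ (𝟙 T)
      (Category.id_comp _)
    haveI : IsIso ((AlgSt.QuotSt Scheme.fppfPrecoverage G aX).p.map χ) := by rw [hχ]; exact IsIso.id (C := Over S) T
    haveI := isIso_of_map hgr χ
    let g₂' := inv χ ≫ g₂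
    let k : (qm).obj (qpt T (g₁.base : T ⟶ X)) ⟶ (qm).obj (qpt (q0 aX).P (𝟙 (q0 aX).P ≫ (q0 aX).φ)) :=
      (qm).map (⟨unitPt g₂', congrArg ULift.up (by rw [Category.id_comp]; exact unitPt_φ g₂')⟩ :
        qpt T (g₁.base : T ⟶ X) ⟶ qpt (q0 aX).P (𝟙 (q0 aX).P ≫ (q0 aX).φ))
    have hk₂ : k ≫ cov (q0 aX) = g₂' := hom_ext_unitPt (by
      rw [unitPt_map _ (by rw [Category.id_comp]; exact unitPt_φ g₂') _, unitPt_trivHom, Category.comp_id])
    have hk₁ : k ≫ toQ0 (𝟙 (q0 aX).P ≫ (q0 aX).φ) = toQ0 (g₁.base : T ⟶ X) := by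
      rw [← Functor.map_comp]
      congr 1
      exact Stk.EltObj.hom_ext (by
        show unitPt g₂' ≫ 𝟙 _ ≫ (q0 aX).φ = g₁.base
        rw [Category.id_comp]
        exact unitPt_φ g₂')
    have key : ∀ g : (qm).obj (qpt (q0 aX).P (𝟙 (q0 aX).P ≫ (q0 aX).φ)) ⟶ q0 aX,
        val (χ ≫ k ≫ g) ≫ 𝔉.mp (χ ≫ k) = (χ ≫ k).base.left ≫ val g := fun g => by
      rw [← Category.assoc]; exact hval_nat _ g
    have e₁ : g₁ = χ ≫ k ≫ toQ0 (𝟙 (q0 aX).P ≫ (q0 aX).φ) := by rw [hk₁, hχc]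
    have e₂ : g₂ = χ ≫ k ≫ cov (q0 aX) := by rw [hk₂, IsIso.hom_inv_id_assoc]
    rw [e₁, e₂]
    refine (𝔉.isPullback (χ ≫ k)).hom_ext ?_ ((hvalπ _).trans (hvalπ _).symm)
    rw [key, key, hpair]
  have hepi : ∀ b : AlgSt.QuotObj Scheme.fppfPrecoverage G aX, Epi b.π.left := fun b =>
    haveI := effectiveEpi_π b
    inferInstance
  let τ : ∀ b : AlgSt.QuotObj Scheme.fppfPrecoverage G aX, b.P.left ⟶ 𝔉.Z b := fun b =>
    val (toQ0 (𝟙 b.P ≫ b.φ)) ≫ 𝔉.mp (cov b)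
  have hτg : ∀ {b} {T : Over S} {x : T ⟶ X} (k : (qm).obj (qpt T x) ⟶ (qm).obj (qpt b.P (𝟙 b.P ≫ b.φ)))
      (g : (qm).obj (qpt T x) ⟶ q0 aX), k.base.left ≫ τ b = val g ≫ 𝔉.mp (k ≫ cov b) := fun {b T x} k g => by
    rw [← hindep₀ x (k ≫ toQ0 (𝟙 b.P ≫ b.φ)) g, 𝔉.mp_comp, ← Category.assoc, ← hval_nat k]
    exact Category.assoc _ _ _
  have hdesc : ∀ b, ∀ {W : Scheme.{u}} (z₁ z₂ : W ⟶ b.P.left), z₁ ≫ b.π.left = z₂ ≫ b.π.left →
      z₁ ≫ τ b = z₂ ≫ τ b := by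
    intro b W z₁ z₂ hz
    let T : Over S := Over.mk (z₁ ≫ b.P.hom)
    let w₁ : T ⟶ b.P := Over.homMk z₁ rfl
    let w₂ : T ⟶ b.P := Over.homMk z₂ (by
      show z₂ ≫ b.P.hom = z₁ ≫ b.P.hom
      rw [← Over.w b.π, ← reassoc_of% hz])
    let k₁ : (qm).obj (qpt T (w₁ ≫ 𝟙 b.P ≫ b.φ)) ⟶ (qm).obj (qpt b.P (𝟙 b.P ≫ b.φ)) :=
      (qm).map (⟨w₁, rfl⟩ : qpt T (w₁ ≫ 𝟙 b.P ≫ b.φ) ⟶ qpt b.P (𝟙 b.P ≫ b.φ))
    obtain ⟨k₂, ⟨hk₂, hk₂c⟩, -⟩ := existsUnique_cart hgr (cov b) (k₁ ≫ cov b) w₂ (Over.OverMorphism.ext (by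
      show z₂ ≫ (cov b).base.left = z₁ ≫ (cov b).base.left
      rw [cov_base, hz]))
    let g : (qm).obj (qpt T (w₁ ≫ 𝟙 b.P ≫ b.φ)) ⟶ q0 aX := toQ0 _
    have h₁ := hτg k₁ g
    have h₂ := hτg k₂ g
    rw [hk₂c, ← h₁] at h₂
    have hb : k₂.base = w₂ := hk₂
    rw [hb] at h₂
    exact h₂.symm
  let sg : ∀ b, (pS).obj b ⟶ 𝔉.Z b := fun b =>
    haveI := effectiveEpi_π b
    EffectiveEpi.desc b.π.left (τ b) (fun z₁ z₂ hz => hdesc b z₁ z₂ hz)
  have hsg : ∀ b, b.π.left ≫ sg b = τ b := fun b =>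
    haveI := effectiveEpi_π b
    EffectiveEpi.fac b.π.left (τ b) (fun z₁ z₂ hz => hdesc b z₁ z₂ hz)
  refine ⟨⟨⟨sg, fun b => ?_, fun {a b} m => ?_⟩, fun a ha => ?_⟩, fun s s' hss => ?_⟩
  · haveI := hepi b
    rw [← cancel_epi b.π.left, reassoc_of% (hsg b)]
    show (val _ ≫ 𝔉.mp (cov b)) ≫ 𝔉.π b = b.π.left ≫ 𝟙 _
    rw [Category.assoc, (𝔉.isPullback (cov b)).w, ← Category.assoc, hvalπ]
    exact (Category.id_comp _).trans ((cov_base b).trans (Category.comp_id _).symm)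
  · haveI := hepi a
    obtain ⟨k, ⟨hk, hkc⟩, -⟩ := existsUnique_cart hgr (cov b) (cov a ≫ m) m.top (by
      show m.top ≫ 𝟙 b.P ≫ b.π = (𝟙 a.P ≫ a.π) ≫ m.base
      rw [Category.id_comp, Category.id_comp, m.cart.w])
    have hk' : k.base = m.top := hk
    rw [← cancel_epi a.π.left, reassoc_of% (hsg a)]
    show (val _ ≫ 𝔉.mp (cov a)) ≫ 𝔉.mp m = a.π.left ≫ m.base.left ≫ sg b
    rw [← Category.assoc a.π.left, ← Over.comp_left, ← m.cart.w, Over.comp_left, Category.assoc m.top.left,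
      hsg, ← hk', hτg k (toQ0 _), hkc, 𝔉.mp_comp, Category.assoc]
  · haveI := hepi a
    have ha' : Q ((qm).obj (qpt a.P (𝟙 a.P ≫ a.φ))) := hQmor (cov a) ha
    rw [← cancel_epi a.π.left, hsg]
    show val _ ≫ 𝔉.mp (cov a) = _
    rw [← hcons ha', σ.nat ha' ha]
    exact congrArg (· ≫ σ.s a ha) (cov_base a)
  · have h0 : s.s (q0 aX) = s'.s (q0 aX) := by
      refine ext_of_injective U.ι hΓ.1 ?_
      exact ((s.nat i₀).symm.trans (congrArg (· ≫ 𝔉.mp i₀) (hss _ ha₀))).trans (s'.nat i₀)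
    intro b
    haveI := hepi b
    have h1 : ∀ {c} (g : c ⟶ q0 aX), s.s c = s'.s c := fun {c} g => (𝔉.isPullback g).hom_ext
      (by rw [s.nat, s'.nat, h0]) ((s.sec c).trans (s'.sec c).symm)
    have h2 : (cov b).base.left ≫ s.s b = (cov b).base.left ≫ s'.s b :=
      ((s.nat (cov b)).symm.trans (congrArg (· ≫ 𝔉.mp (cov b)) (h1 (toQ0 _)))).trans (s'.nat (cov b))
    rw [cov_base] at h2
    exact (cancel_epi b.π.left).1 h2

end Groth.Agent.ThetaAff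

end
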