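import Groth.Agent.AlgStLib.Rep
import Groth.Agent.FibCatRep.Cart

/-!
# Affine functors: the universal object over an object of the target

For a functor `f` representable by algebraic spaces with affine structure morphisms and an object `η` of the
target there is a pair `(x, ν : f x ⟶ η)` through which all such pairs factor uniquely; the morphism of base
schemes under `ν` is affine.
-/

set_option autoImplicit false
set_option backward.isDefEq.respectTransparency false
set_option backward.isDefEq.respectTransparency.types false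
universe u

noncomputable section

namespace Groth.Agent.ThetaAff

open CategoryTheory CategoryTheory.Limits AlgebraicGeometry Opposite Groth.Agent.FibCatRep
  Groth.Agent.FibCat2Misc Groth.Agent.AlgSpLib Groth.Agent.StkBasic Groth.Agent.AlgStLib
open _root_.AlgSp _root_.AlgSt

variable {S : Scheme.{u}} {𝒳 𝒴 : AlgSt.Cat S}

/-- The universal object over `η`. -/
structure Model (f : 𝒳 ⥤ᵇ 𝒴) (η : 𝒴.obj) where
  /-- the object -/
  x : 𝒳.obj
  /-- the morphism -/
  ν : f.obj x ⟶ η
  existsUnique : ∀ (x' : 𝒳.obj) (ν' : f.obj x' ⟶ η), ∃! n : x' ⟶ x, f.map n ≫ ν = ν'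
  affine : IsAffineHom (𝒴.p.map ν).left

theorem isTerminal_elt {P : PSp S} {V : Over S} (k : (pyon S).obj V ≅ P) :
    ∀ a : (Stk.ofPsh P).obj, ∃! g : a ⟶ ⟨V, sEq k.hom⟩, True := by
  intro a
  let g : a.base ⟶ V := (k.inv.app (op a.base) a.sec).down
  refine ⟨⟨g, ?_⟩, trivial, fun g' _ => Stk.EltObj.hom_ext ?_⟩
  · show P.map g.op (sEq k.hom) = a.sec
    rw [sEq_naturality, sEq_comp]
    have h : sEq ((pyon S).map g) = k.inv.app (op a.base) a.sec := by
      apply ULift.ext
      show 𝟙 _ ≫ g = g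
      exact Category.id_comp _
    rw [h, ← NatTrans.comp_app_apply, k.inv_hom_id]
    rfl
  · show g'.hom = g
    have h := g'.map_sec
    rw [sEq_naturality, sEq_comp] at h
    have h' := congrArg (fun t => (k.inv.app (op a.base) t).down) h
    dsimp only at h'
    rw [← NatTrans.comp_app_apply, k.hom_inv_id] at h'
    refine Eq.trans ?_ h'
    show g'.hom = 𝟙 _ ≫ g'.hom
    exact (Category.id_comp _).symm

theorem exists_model' (h𝒴 : FibCat.IsFibGrpd 𝒴.p) {f : 𝒳 ⥤ᵇ 𝒴}
    (hf : RepByAlgSpWith (AlgSp.RepWith @IsAffineHom) f) (η : 𝒴.obj) : Nonempty (Model f η) := by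
  obtain ⟨y, i, hi⟩ := exists_point h𝒴 η
  obtain ⟨P, e, he, hs, _, hrep⟩ := (AlgStLib.repWith_iff _ f).1 hf _ y
  let F : Sp S := ⟨P, hs⟩
  let π : F ⟶ (yon S).obj (𝒴.p.obj η) := ObjectProperty.homMk (prjMap e)
  obtain ⟨V, snd', fst', sq⟩ := hrep.1 (𝟙 ((yon S).obj (𝒴.p.obj η)))
  have haff : IsAffineHom snd'.left := hrep.2 _ _ _ sq
  haveI : IsIso fst' := sq.isIso_fst_of_isIso
  let k : (pyon S).obj V ≅ P := (sheafToPresheaf (J S) _).mapIso (asIso fst')
  have hk : k.hom ≫ prjMap e = (pyon S).map snd' := by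
    have := congrArg (fun t => (sheafToPresheaf (J S) _).map t) sq.w
    rw [Category.comp_id] at this
    exact this
  let ω : (Stk.ofPsh P).obj := ⟨V, sEq k.hom⟩
  obtain ⟨G, ⟨e₁⟩, ⟨e₂⟩⟩ := he
  let E : (Stk.ofPsh P).obj ≌ (FibCat.fp y f).obj := CategoryTheory.Equivalence.mk e.toFunctor G.toFunctor
    ((BasedNatTrans.forgetful _ _).mapIso e₁).symm ((BasedNatTrans.forgetful _ _).mapIso e₂)
  let o := e.obj ω
  have ht : IsTerminal o :=
    IsTerminal.isTerminalObj E.functor ω (IsTerminal.ofUniqueHom (fun a => (isTerminal_elt k a).choose)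
      fun a g => (isTerminal_elt k a).choose_spec.2 g trivial)
  let m₀ : o.obj.fst ⟶ pt (𝒴.p.obj η) := ⟨o.obj.fst.sec.down, ULift.ext _ _ (show o.obj.fst.sec.down ≫ 𝟙 _ = _ from Category.comp_id _)⟩
  obtain ⟨ho, hoi⟩ := map_iso_hom o
  have hoinv : 𝒴.p.map o.obj.iso.inv = eqToHom ho.symm := by
    rw [← cancel_mono (𝒴.p.map o.obj.iso.hom), ← Functor.map_comp, Iso.inv_hom_id, hoi]
    simp
  let ν : f.obj o.obj.snd ⟶ η := o.obj.iso.inv ≫ y.map m₀ ≫ i.hom
  have hsec : ∀ a : (Stk.ofPsh ((pyon S).obj (𝒴.p.obj η))).obj, ∀ m m' : a ⟶ pt (𝒴.p.obj η), m = m' :=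
    fun a m m' => Stk.EltObj.hom_ext (by
      have h := congrArg ULift.down (m.map_sec.trans m'.map_sec.symm)
      have h' : m.hom ≫ 𝟙 _ = m'.hom ≫ 𝟙 _ := h
      simpa using h')
  refine ⟨⟨o.obj.snd, ν, fun x' ν' => ?_, ?_⟩⟩
  · obtain ⟨a, m, χ, hχ', hχ, hχc⟩ := exists_iso_pt h𝒴 i ν'
    let o' : (FibCat.fp y f).obj := ⟨⟨a, x', χ⟩, fpProp_of_map y f _ hχ' hχ⟩
    refine ⟨(ht.from o').hom.snd, ?_, fun n hn => ?_⟩
    · dsimp only [ν]
      have hw := (ht.from o').hom.w
      have hm : m = (ht.from o').hom.fst ≫ m₀ := hsec _ _ _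
      rw [← cancel_epi χ.hom, hχc, hm]
      rw [← Category.assoc χ.hom]
      erw [← hw]
      simp
    · have hpn : 𝒴.p.map (f.map n) ≫ 𝒴.p.map ν = 𝒴.p.map ν' := by rw [← Functor.map_comp, hn]
      let m' : a ⟶ o.obj.fst :=
        ⟨eqToHom (show a.base = 𝒳.p.obj x' from (fp_obj_eq o').symm) ≫ 𝒳.p.map n ≫ eqToHom (fp_obj_eq o), by
          apply ULift.ext
          have hm : m.hom ≫ 𝟙 _ = a.sec.down := congrArg ULift.down m.map_sec
          have h2 := congrArg (fun t => 𝒴.p.map t) hχc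
          dsimp only at h2
          rw [Functor.map_comp, Functor.map_comp, map_map, hχ, hi, ← hpn, map_map] at h2
          dsimp only [ν] at h2
          rw [Functor.map_comp, Functor.map_comp, hoinv, map_map y, hi] at h2
          show (eqToHom _ ≫ 𝒳.p.map n ≫ eqToHom _) ≫ o.obj.fst.sec.down = a.sec.down
          rw [← hm, Category.comp_id]
          simp only [Category.assoc, eqToHom_trans, eqToHom_trans_assoc] at h2
          simp only [Category.assoc]
          rw [← cancel_epi (eqToHom (y.w_obj a))]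
          simpa [m₀] using h2⟩
      have hw : y.map m' ≫ o.obj.iso.hom = χ.hom ≫ f.map n := by
        refine cancel h𝒴 ν ?_ ?_
        · simp [map_map, hoi, hχ, m']
        · rw [Category.assoc, Category.assoc, hn, hχc]
          dsimp only [ν]
          rw [Iso.hom_inv_id_assoc, ← Functor.map_comp_assoc]
          rw [hsec _ (m' ≫ m₀) m]
      let M : o' ⟶ o := ObjectProperty.homMk ⟨m', n, hw⟩
      exact congrArg (fun t : o' ⟶ o => t.hom.snd) (ht.hom_ext M (ht.from o'))
  · show IsAffineHom (𝒴.p.map ν).left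
    have hfst : o.obj.fst.sec.down = eqToHom ((BasedFunctor.comp e (FibCat.fpFst y f)).w_obj ω) ≫ snd' := by
      have hl : (prjMap e).app (op V) (sEq k.hom) = sEq ((pyon S).map snd') := by rw [← hk, sEq_comp]
      have hl' : eqToHom ((BasedFunctor.comp e (FibCat.fpFst y f)).w_obj ω).symm ≫ o.obj.fst.sec.down = snd' := by
        refine Eq.trans ?_ ((congrArg ULift.down hl).trans
          (show (sEq ((pyon S).map snd')).down = snd' from Category.id_comp snd'))
        rfl
      rw [← hl', eqToHom_trans_assoc, eqToHom_refl, Category.id_comp]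
    dsimp only [ν]
    rw [Functor.map_comp, Functor.map_comp, hoinv, map_map y, hi]
    change IsAffineHom (eqToHom _ ≫ (eqToHom _ ≫ o.obj.fst.sec.down ≫ eqToHom _) ≫ eqToHom _).left
    rw [hfst]
    simp only [Category.assoc, eqToHom_trans, Over.comp_left]
    infer_instance

end Groth.Agent.ThetaAff

end
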